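import Mathlib

/-!
Kashiwara's lemma for torsion modules with commuting-with-coordinates derivations, in
characteristic zero: the first Koszul cohomology vanishes.
-/

set_option autoImplicit false

universe u

namespace Groth.Agent.Kashiwara

variable {A : Type u} [CommRing A] {M : Type u} [AddCommGroup M] [Module A M] {d : ℕ}

/-- `z` is killed by all words of length `n` in the `x j`. -/
def Level (x : Fin d → A) : ℕ → M → Prop
  | 0, z => z = 0
  | n + 1, z => ∀ j, Level x n (x j • z)

theorem level_succ (x : Fin d → A) : ∀ (n : ℕ) (z : M), Level x n z → Level x (n + 1) z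
  | 0, z, h => fun j => by
    change x j • z = 0
    rw [show z = 0 from h, smul_zero]
  | n + 1, z, h => fun j => level_succ x n _ (h j)

theorem level_of_pow (x : Fin d → A) (m : Ideal A) (hx : ∀ j, x j ∈ m) :
    ∀ (n : ℕ) (z : M), (∀ a ∈ m ^ n, a • z = 0) → Level x n z
  | 0, z, h => by
    change z = 0
    simpa using h 1 (by simp)
  | n + 1, z, h => fun j => level_of_pow x m hx n _ fun a ha => by
    rw [← mul_smul]
    exact h _ (by rw [pow_succ]; exact Ideal.mul_mem_mul ha (hx j))

variable (x : Fin d → A) (D : Fin d → M →+ M)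

/-- The shifted Euler operator `Σ x i D i + d`. -/
def eulerOp : M →+ M where
  toFun z := ∑ i, x i • D i z + d • z
  map_zero' := by simp
  map_add' a b := by simp [Finset.sum_add_distrib, smul_add]; abel

variable {x} {D} (hD : ∀ i j (z : M), D i (x j • z) = (if i = j then (1 : A) else 0) • z + x j • D i z)

include hD

theorem euler_smul (j : Fin d) (z : M) : eulerOp x D (x j • z) = x j • (eulerOp x D z + z) := by
  simp only [eulerOp, AddMonoidHom.coe_mk, ZeroHom.coe_mk, hD, smul_add, Finset.smul_sum,
    smul_smul, Finset.sum_add_distrib]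
  rw [smul_comm (d : ℕ) (x j) z]
  simp only [mul_ite, mul_one, mul_zero, ite_smul, zero_smul, Finset.sum_ite_eq',
    Finset.mem_univ, if_true]
  simp only [mul_comm (x j)]
  abel

theorem euler_eq_zero (z : M) (hz : ∀ j, x j • z = 0) : eulerOp x D z = 0 := by
  have h : ∀ i, x i • D i z = -z := fun i => by
    have h1 := hD i i z
    rw [hz i, map_zero, if_pos rfl, one_smul] at h1
    exact eq_neg_of_add_eq_zero_right h1.symm
  simp [eulerOp, h]

theorem level_euler : ∀ (n : ℕ) (z : M), Level x (n + 1) z → Level x n (eulerOp x D z + n • z)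
  | 0, z, h => by
    change eulerOp x D z + 0 • z = 0
    rw [zero_smul, add_zero]
    exact euler_eq_zero hD z h
  | n + 1, z, h => fun j => by
    have h1 := level_euler n (x j • z) (h j)
    have e : x j • (eulerOp x D z + (n + 1) • z) = eulerOp x D (x j • z) + n • (x j • z) := by
      rw [euler_smul hD, smul_comm n (x j) z, ← smul_add, succ_nsmul]
      abel_nf
    rwa [e]

theorem euler_fixed (hnat : ∀ n : ℕ, IsUnit ((n + 1 : ℕ) : A)) :
    ∀ (n : ℕ) (z : M), Level x n z → eulerOp x D z = z → z = 0
  | 0, z, h, _ => h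
  | n + 1, z, h, ht => by
    have h1 := level_euler hD n z h
    rw [ht, show z + n • z = (n + 1) • z by rw [succ_nsmul]; abel] at h1
    have h2 := euler_fixed hnat n _ h1 (by rw [map_nsmul, ht])
    rw [← Nat.cast_smul_eq_nsmul A] at h2
    exact (hnat n).smul_eq_zero.mp h2

theorem exists_decomp (c : ℕ → A) (hc : ∀ n : ℕ, c n * ((n + 1 : ℕ) : A) = 1)
    (hcomm : ∀ (n : ℕ) (z : M), eulerOp x D (c n • z) = c n • eulerOp x D z) :
    ∀ (n : ℕ) (u : M), Level x n u → ∃ w : M, eulerOp x D (u - eulerOp x D w) = 0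
  | 0, u, h => ⟨0, by rw [show u = 0 from h]; simp⟩
  | n + 1, u, h => by
    cases n with
    | zero => exact ⟨0, by simp [euler_eq_zero hD u h]⟩
    | succ k =>
      obtain ⟨w', hw'⟩ := exists_decomp c hc hcomm (k + 1) _ (level_euler hD (k + 1) u h)
      refine ⟨c k • (w' - u), ?_⟩
      rw [map_sub, map_add, map_nsmul] at hw'
      have e : ((k + 1 : ℕ) : A) • eulerOp x D u =
          eulerOp x D (eulerOp x D w') - eulerOp x D (eulerOp x D u) := by
        rw [Nat.cast_smul_eq_nsmul, ← sub_eq_zero, ← hw']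
        abel
      rw [map_sub, hcomm, hcomm, map_sub, map_sub, ← e, smul_smul, hc, one_smul, sub_self]

/-- Exactness of the Koszul complex in degree one. -/
theorem exists_smul_eq (c : ℕ → A) (hc : ∀ n : ℕ, c n * ((n + 1 : ℕ) : A) = 1)
    (hcomm : ∀ (n : ℕ) (z : M), eulerOp x D (c n • z) = c n • eulerOp x D z)
    (hlev : ∀ z : M, ∃ n, Level x n z) (m : Fin d → M) (hm : ∀ i j, x i • m j = x j • m i) :
    ∃ w : M, ∀ j, x j • w = m j := by
  have hnat : ∀ n : ℕ, IsUnit ((n + 1 : ℕ) : A) := fun n => IsUnit.of_mul_eq_one_right _ (hc n)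
  have hfix : ∀ z : M, eulerOp x D z = z → z = 0 := fun z hz =>
    let ⟨n, hn⟩ := hlev z
    euler_fixed hD hnat n z hn hz
  set u := ∑ i, D i (m i) with hu
  have hxu : ∀ j, x j • u = eulerOp x D (m j) - m j := fun j => by
    have h1 : ∀ i, x j • D i (m i) = x i • D i (m j) + m j - (if i = j then (1 : A) else 0) • m i := by
      intro i
      have a := hD i j (m i)
      have b := hD i i (m j)
      rw [← hm i j, b, if_pos rfl, one_smul] at a
      rw [add_comm (x i • D i (m j)), a]
      abel
    rw [hu, Finset.smul_sum, Finset.sum_congr rfl fun i _ => h1 i]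
    simp [eulerOp, Finset.sum_add_distrib, ite_smul]
  obtain ⟨n, hn⟩ := hlev u
  obtain ⟨w, hw⟩ := exists_decomp hD c hc hcomm n u hn
  refine ⟨w, fun j => ?_⟩
  have h0 : x j • (u - eulerOp x D w) = 0 := hfix _ (by rw [euler_smul hD, hw, zero_add])
  rw [smul_sub, hxu, sub_eq_zero] at h0
  refine sub_eq_zero.mp (hfix _ ?_)
  have h1 : eulerOp x D (x j • w) = x j • eulerOp x D w + x j • w := by
    rw [euler_smul hD, smul_add]
  rw [map_sub, h1, ← h0]
  abel

end Groth.Agent.Kashiwara
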