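import Mathlib
import Groth.Prelude.Def_Wider
import Groth.Agent.S5155
import Groth.Agent.S0300
import Groth.Agent.Kashiwara.Basic

/-!
Torsion modules over a Noetherian local ring with vanishing first Koszul cohomology are sums of
copies of the injective hull of the residue field.
-/

set_option autoImplicit false
set_option linter.style.haveILetI false

universe u

open IsLocalRing

namespace Groth.Agent.Kashiwara

variable {A : Type u} [CommRing A] [IsLocalRing A] [IsNoetherianRing A] {d : ℕ} (x : Fin d → A)

theorem smul_eq_zero_of_span {N : Type u} [AddCommGroup N] [Module A N]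
    (hx : maximalIdeal A = Ideal.span (Set.range x)) {z : N} (hz : ∀ j, x j • z = 0) :
    ∀ a ∈ maximalIdeal A, a • z = 0 := fun a ha => by
  have : Ideal.span (Set.range x) ≤ (Submodule.span A {z}).annihilator :=
    Ideal.span_le.mpr (Set.range_subset_iff.mpr fun j =>
      (Submodule.mem_annihilator_span_singleton z (x j)).mpr (hz j))
  exact (Submodule.mem_annihilator_span_singleton z a).mp (this (hx ▸ ha))

theorem exists_finsupp_equiv (hx : maximalIdeal A = Ideal.span (Set.range x))
    {E : Type u} [AddCommGroup E] [Module A E] (e : ResidueField A →ₗ[A] E)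
    (he : InjHull.IsInjectiveHull e) {M : Type u} [AddCommGroup M] [Module A M]
    (hM : LocCoh.IsPowerTorsion (maximalIdeal A) M)
    (hK : ∀ m : Fin d → M, (∀ i j, x i • m j = x j • m i) → ∃ w, ∀ j, x j • w = m j) :
    ∃ J : Type u, Nonempty (M ≃ₗ[A] (J →₀ E)) := by
  obtain ⟨hEinj, hEtor, hEsimple⟩ := (Groth.Agent.S5155.result A E).1 ⟨e, he⟩
  have hxm : ∀ j, x j ∈ maximalIdeal A := fun j => hx ▸ Ideal.subset_span ⟨j, rfl⟩
  have he0 : Function.Injective e := he.1.1
  have hsocE : ∀ z : E, (∀ a ∈ maximalIdeal A, a • z = 0) → z ∈ LinearMap.range e := by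
    intro z hz
    let h : ResidueField A →ₗ[A] E := Submodule.liftQ (maximalIdeal A)
      (LinearMap.toSpanSingleton A E z) (fun a ha => LinearMap.mem_ker.mpr (hz a ha))
    have hne : e ≠ 0 := fun h0 => one_ne_zero (α := ResidueField A) (he0 (by simp [h0]))
    obtain ⟨a, ha⟩ := Submodule.mem_span_singleton.mp
      ((IsSimpleModule.span_singleton_eq_top A hne).symm ▸ Submodule.mem_top (x := h))
    refine ⟨a • (1 : ResidueField A), ?_⟩
    rw [map_smul, ← LinearMap.smul_apply, ha]
    exact one_smul A z
  let V : Submodule A M := Submodule.torsionBySet A M (maximalIdeal A : Set A)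
  letI : Field (A ⧸ maximalIdeal A) := Ideal.Quotient.field _
  let b := Module.Basis.ofVectorSpace (A ⧸ maximalIdeal A) V
  let J := Module.Basis.ofVectorSpaceIndex (A ⧸ maximalIdeal A) V
  haveI : Module.Injective A (J →₀ E) := by
    classical
    haveI := Groth.Agent.S0300.result A (fun _ : J => E) fun _ => hEinj
    exact InjHullLib.injective_of_retract (Q := DirectSum J fun _ => E)
      (finsuppLEquivDirectSum A E J).toLinearMap (finsuppLEquivDirectSum A E J).symm.toLinearMap
      (LinearMap.ext fun z => (finsuppLEquivDirectSum A E J).symm_apply_apply z)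
  let g : V →ₗ[A] (J →₀ E) :=
    (Finsupp.mapRange.linearMap e) ∘ₗ (b.repr.restrictScalars A).toLinearMap
  obtain ⟨f, hf⟩ := Module.Injective.out (R := A) V.subtype Subtype.val_injective g
  have hg : Function.Injective g := fun z w h =>
    b.repr.injective (Finsupp.mapRange_injective e (map_zero e) he0 h)
  have hfinj : ∀ (n : ℕ) (z : M), Level x n z → f z = 0 → z = 0 := by
    intro n
    induction n with
    | zero => exact fun z hz _ => hz
    | succ n ih =>
      intro z hz hfz
      have hzV : z ∈ V := (Submodule.mem_torsionBySet_iff _ _).mpr fun a =>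
        smul_eq_zero_of_span x hx (fun j => ih _ (hz j) (by rw [map_smul, hfz, smul_zero])) a a.2
      have h1 : g ⟨z, hzV⟩ = 0 := (hf ⟨z, hzV⟩).symm.trans hfz
      exact congrArg Subtype.val (hg (h1.trans (map_zero g).symm))
  have hlev : ∀ z : M, ∃ n, Level x n z := fun z =>
    let ⟨n, hn⟩ := hM z
    ⟨n, level_of_pow x _ hxm n z hn⟩
  have hinj : Function.Injective f := (injective_iff_map_eq_zero f).mpr fun z hz =>
    let ⟨n, hn⟩ := hlev z
    hfinj n z hn hz
  have hsoc : ∀ y : J →₀ E, (∀ j, x j • y = 0) → ∃ z : M, f z = y := by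
    intro y hy
    have h1 : ∀ i, ∃ r : A ⧸ maximalIdeal A, e r = y i := fun i =>
      hsocE (y i) fun a ha => by rw [← Finsupp.smul_apply, smul_eq_zero_of_span x hx hy a ha,
        Finsupp.zero_apply]
    choose r hr using h1
    let y' : J →₀ (A ⧸ maximalIdeal A) := Finsupp.onFinset y.support r fun i hi => by
      rw [Finsupp.mem_support_iff]
      intro h0
      exact hi (he0 ((hr i).trans (h0.trans e.map_zero.symm)))
    refine ⟨(b.repr.symm y' : V), (hf _).trans ?_⟩
    ext i
    change Finsupp.mapRange e e.map_zero (b.repr (b.repr.symm y')) i = y i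
    rw [LinearEquiv.apply_symm_apply, Finsupp.mapRange_apply]
    exact hr i
  have hsurj : ∀ (n : ℕ) (y : J →₀ E), Level x n y → ∃ z : M, f z = y := by
    intro n
    induction n with
    | zero => exact fun y hy => ⟨0, by rw [map_zero]; exact (show y = 0 from hy).symm⟩
    | succ n ih =>
      intro y hy
      choose m hm using fun j => ih _ (hy j)
      obtain ⟨w, hw⟩ := hK m fun i j => hinj (by rw [map_smul, map_smul, hm, hm, smul_comm])
      obtain ⟨z, hz⟩ := hsoc (y - f w) fun j => by
        rw [smul_sub, ← map_smul, hw, hm, sub_self]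
      exact ⟨z + w, by rw [map_add, hz, sub_add_cancel]⟩
  refine ⟨J, ⟨LinearEquiv.ofBijective f ⟨hinj, fun y => ?_⟩⟩⟩
  choose N hN using fun i => hEtor (y i)
  refine hsurj (y.support.sup N) y (level_of_pow x _ hxm _ y fun a ha => Finsupp.ext fun i => ?_)
  rw [Finsupp.smul_apply, Finsupp.zero_apply]
  by_cases hi : i ∈ y.support
  · exact hN i a (Ideal.pow_le_pow_right (Finset.le_sup hi) ha)
  · rw [Finsupp.notMem_support_iff.mp hi, smul_zero]

end Groth.Agent.Kashiwara
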